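import Cfsg.Agent.Lib.Char.Burnside
import Mathlib.GroupTheory.Sylow
import Mathlib.GroupTheory.Complement

/-!
# Centraliser orders in simple groups

Elementary tools for simple groups with three orders of centralisers of non-identity elements.
-/

set_option autoImplicit false
set_option linter.style.haveILetI false
set_option linter.unusedSectionVars false

open Subgroup

namespace Cfsg.Lib.ConjRankThree

universe u

variable {G : Type u} [Group G]

/-- The order of the centraliser. -/
noncomputable def val (x : G) : ℕ := Nat.card (centralizer ({x} : Set G))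

theorem mem_cent {x g : G} : g ∈ centralizer ({x} : Set G) ↔ Commute g x :=
  mem_centralizer_singleton_iff.trans Iff.rfl

theorem self_mem (x : G) : x ∈ centralizer ({x} : Set G) := mem_cent.2 (Commute.refl x)

theorem cent_le_pow (x : G) (n : ℕ) :
    centralizer ({x} : Set G) ≤ centralizer ({x ^ n} : Set G) := fun _ hg =>
  mem_cent.2 ((mem_cent.1 hg).pow_right n)

variable [Finite G]

theorem val_pos (x : G) : 0 < val x := Nat.card_pos

theorem val_dvd_card (x : G) : val x ∣ Nat.card G := card_subgroup_dvd_card _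

theorem val_dvd {x y : G} (h : centralizer ({x} : Set G) ≤ centralizer ({y} : Set G)) :
    val x ∣ val y :=
  card_dvd_of_le h

theorem eq_of_le_of_val {x y : G} (h : centralizer ({x} : Set G) ≤ centralizer ({y} : Set G))
    (e : val x = val y) : centralizer ({x} : Set G) = centralizer ({y} : Set G) :=
  eq_of_le_of_card_ge h e.ge

theorem val_conj (g x : G) : val (g * x * g⁻¹) = val x := by
  have e : centralizer ({g * x * g⁻¹} : Set G) =
      (centralizer ({x} : Set G)).map (MulAut.conj g).toMonoidHom := by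
    ext w
    rw [Subgroup.mem_map, mem_cent]
    constructor
    · intro h
      refine ⟨g⁻¹ * w * g, mem_cent.2 ?_, by simp [mul_assoc]⟩
      have := h.map (MulAut.conj g⁻¹).toMonoidHom
      simpa [mul_assoc] using this
    · rintro ⟨v, hv, rfl⟩
      have := (mem_cent.1 hv).map (MulAut.conj g).toMonoidHom
      simpa using this
  rw [val, val, e, card_map_of_injective (f := (MulAut.conj g).toMonoidHom) (MulAut.conj g).injective]

/-- The centraliser of a product of commuting elements of coprime orders centralises both. -/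
theorem cent_mul_le {u v : G} (hc : Commute u v) (hco : (orderOf u).Coprime (orderOf v)) :
    centralizer ({u * v} : Set G) ≤ centralizer ({u} : Set G) ⊓ centralizer ({v} : Set G) := by
  intro g hg
  have hu : Commute g u := by
    obtain ⟨k, hk⟩ := exists_pow_eq_self_of_coprime (x := u) hco.symm
    have e : ((u * v) ^ orderOf v) ^ k = u := by
      rw [hc.mul_pow, pow_orderOf_eq_one, mul_one, hk]
    exact e ▸ ((mem_cent.1 hg).pow_right _).pow_right _
  refine ⟨mem_cent.2 hu, mem_cent.2 ?_⟩
  have := hu.inv_right.mul_right (mem_cent.1 hg)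
  rwa [inv_mul_cancel_left] at this

theorem mul_ne_one {u v : G} (hu : u ≠ 1) (hco : (orderOf u).Coprime (orderOf v)) : u * v ≠ 1 :=
  fun h => hu (orderOf_eq_one_iff.1 (by
    rw [eq_inv_of_mul_eq_one_left h, orderOf_inv] at hco
    rw [eq_inv_of_mul_eq_one_left h, orderOf_inv]
    exact (Nat.coprime_self _).1 hco))

theorem coprime_pow {p q i j : ℕ} [Fact p.Prime] [Fact q.Prime] (hpq : p ≠ q) {u v : G}
    (hu : orderOf u = p ^ i) (hv : orderOf v = q ^ j) : (orderOf u).Coprime (orderOf v) := by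
  rw [hu, hv]
  exact Nat.Coprime.pow _ _ ((Nat.coprime_primes Fact.out Fact.out).2 hpq)

/-- A subgroup containing the elements of prime power order of `K` contains `K`. -/
theorem le_of_primePow {H K : Subgroup G}
    (h : ∀ (p : ℕ) [Fact p.Prime], ∀ w ∈ K, ∀ j : ℕ, orderOf w = p ^ j → w ∈ H) : K ≤ H := by
  have hd : Nat.card K ∣ Nat.card (H ⊓ K : Subgroup G) := by
    refine (Nat.dvd_iff_prime_pow_dvd_dvd _ _).2 fun p k hp hk => ?_
    haveI := Fact.mk hp
    obtain ⟨P, hP⟩ := Sylow.exists_subgroup_card_pow_prime p hk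
    rw [← hP, ← card_map_of_injective (K := P) K.subtype_injective]
    refine card_dvd_of_le ?_
    rintro _ ⟨x, hx, rfl⟩
    obtain ⟨j, hj⟩ := IsPGroup.iff_orderOf.1 (IsPGroup.of_card hP) ⟨x, hx⟩
    rw [Subgroup.orderOf_mk, ← Subgroup.orderOf_coe] at hj
    exact ⟨h p _ x.2 j hj, x.2⟩
  have : H ⊓ K = K := eq_of_le_of_card_ge inf_le_right (Nat.le_of_dvd Nat.card_pos hd)
  exact this ▸ inf_le_left

/-- The full `p`-part divides `v`. -/
def Full (G : Type u) (p v : ℕ) : Prop := p ^ (Nat.card G).factorization p ∣ v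

theorem full_iff {p : ℕ} [Fact p.Prime] (S : Sylow p G) (v : ℕ) : Full G p v ↔ Nat.card S ∣ v := by
  rw [S.card_eq_multiplicity]; rfl

theorem sylow_ne_bot {p : ℕ} [hp : Fact p.Prime] (hd : p ∣ Nat.card G) (S : Sylow p G) :
    (S : Subgroup G) ≠ ⊥ := S.ne_bot_of_dvd_card hd

/-- Every Sylow subgroup has a nontrivial central element, whose centraliser has full `p`-part. -/
theorem exists_central {p : ℕ} [hp : Fact p.Prime] (hd : p ∣ Nat.card G) (S : Sylow p G) :
    ∃ z ∈ (S : Subgroup G), z ≠ 1 ∧ (S : Subgroup G) ≤ centralizer ({z} : Set G) ∧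
      (∃ j, orderOf z = p ^ j) ∧ Full G p (val z) := by
  haveI : Nontrivial (S : Subgroup G) := (nontrivial_iff_ne_bot _).2 (sylow_ne_bot hd S)
  haveI := S.2.center_nontrivial
  obtain ⟨⟨z, hz⟩, hz1⟩ := exists_ne (1 : center (S : Subgroup G))
  have hle : (S : Subgroup G) ≤ centralizer ({(z : G)} : Set G) := fun s hs =>
    mem_cent.2 (congrArg Subtype.val (mem_center_iff.1 hz ⟨s, hs⟩))
  refine ⟨z, z.2, fun e => hz1 (Subtype.ext (Subtype.ext e)), hle, ?_, ?_⟩
  · obtain ⟨j, hj⟩ := IsPGroup.iff_orderOf.1 S.2 z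
    exact ⟨j, by rw [Subgroup.orderOf_coe, hj]⟩
  · exact (full_iff S _).2 (card_dvd_of_le hle)

theorem eq_card_of_full {v : ℕ} (hv : v ∣ Nat.card G)
    (h : ∀ p : ℕ, [Fact p.Prime] → p ∣ Nat.card G → Full G p v) : v = Nat.card G := by
  refine Nat.dvd_antisymm hv ((Nat.dvd_iff_prime_pow_dvd_dvd _ _).2 fun p k hp hk => ?_)
  haveI := Fact.mk hp
  rcases Nat.eq_zero_or_pos k with rfl | hk0
  · rw [pow_zero]; exact one_dvd _
  exact (pow_dvd_pow p ((hp.pow_dvd_iff_le_factorization Nat.card_pos.ne').1 hk)).trans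
    (h p ((dvd_pow_self p hk0.ne').trans hk))

theorem index_eq (x : G) : (centralizer ({x} : Set G)).index = Nat.card G / val x :=
  (Nat.div_eq_of_eq_mul_right (val_pos x) (card_mul_index _).symm).symm

/-- Two subgroups of coprime indices. -/
theorem exists_mul_of_indices {H K : Subgroup G} (h : H.index.Coprime K.index) (g : G) :
    ∃ x ∈ H, ∃ y ∈ K, g = x * y := by
  have hdvd : K.index ∣ K.relIndex H := by
    have h1 : K.index ∣ (H ⊓ K).index := index_dvd_of_le inf_le_right
    rw [← relIndex_mul_index (inf_le_left : H ⊓ K ≤ H), inf_relIndex_left] at h1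
    exact h.symm.dvd_of_dvd_mul_right h1
  let f : H ⧸ K.subgroupOf H → G ⧸ K :=
    fun q => Quotient.liftOn' q (fun a => ((a : G) : G ⧸ K)) fun a b hab => by
      rw [QuotientGroup.leftRel_apply] at hab
      exact QuotientGroup.eq.2 hab
  have hinj : Function.Injective f := by
    rintro ⟨a⟩ ⟨b⟩ e
    have e' : ((a : G) : G ⧸ K) = ((b : G) : G ⧸ K) := e
    refine QuotientGroup.eq.2 (mem_subgroupOf.2 ?_)
    rw [Subgroup.coe_mul, Subgroup.coe_inv]
    exact QuotientGroup.eq.1 e'
  obtain ⟨q, hq⟩ := ((Nat.bijective_iff_injective_and_card f).2 ⟨hinj,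
    le_antisymm (Nat.card_le_card_of_injective f hinj)
      (Nat.le_of_dvd Nat.card_pos hdvd)⟩).2 (QuotientGroup.mk g)
  induction q using QuotientGroup.induction_on with
  | _ x => exact ⟨x, x.2, (x : G)⁻¹ * g, QuotientGroup.eq.1 hq, (mul_inv_cancel_left _ _).symm⟩

theorem one_lt_val {x : G} (hx : x ≠ 1) : 1 < val x := by
  exact Finite.one_lt_card_iff_nontrivial.2 ⟨⟨⟨x, self_mem x⟩, 1, fun e => hx (congrArg Subtype.val e)⟩⟩

variable [IsSimpleGroup G]

theorem center_eq_bot (hna : ¬ IsMulCommutative G) : center G = ⊥ := by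
  refine (Subgroup.Normal.eq_bot_or_eq_top (inferInstance : (center G).Normal)).resolve_right fun h => ?_
  exact hna ⟨⟨fun a b => mem_center_iff.1 (h ▸ mem_top b) a⟩⟩

theorem val_lt (hna : ¬ IsMulCommutative G) {x : G} (hx : x ≠ 1) : val x < Nat.card G := by
  refine lt_of_le_of_ne (card_le_card_group _) fun e => hx ?_
  have h : x ∈ center G := mem_center_iff.2 fun g =>
    (mem_cent.1 ((eq_top_of_card_eq _ e).symm ▸ mem_top g)).eq
  rwa [center_eq_bot hna, mem_bot] at h

/-- A conjugation invariant family inside a proper subgroup is trivial. -/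
theorem eq_one_of_class_le {H : Subgroup G} (hH : H ≠ ⊤) {x : G} (h : ∀ g : G, g * x * g⁻¹ ∈ H) :
    x = 1 := by
  by_contra hx
  rcases Subgroup.Normal.eq_bot_or_eq_top (normalClosure_normal (s := ({x} : Set G))) with e | e
  · exact hx (mem_bot.1 (e ▸ subset_normalClosure rfl))
  · refine hH (top_le_iff.1 (e ▸ ?_))
    rw [normalClosure, closure_le]
    intro y hy
    obtain ⟨a, rfl, hc⟩ := Group.mem_conjugatesOfSet_iff.1 hy
    obtain ⟨g, rfl⟩ := isConj_iff.1 hc
    exact h g

/-- Burnside: the index is no prime power. -/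
theorem exists_two_primes (hna : ¬ IsMulCommutative G) {x : G} (hx : x ≠ 1) :
    ∃ p q : ℕ, p.Prime ∧ q.Prime ∧ p ≠ q ∧ p ∣ (centralizer ({x} : Set G)).index ∧
      q ∣ (centralizer ({x} : Set G)).index := by
  classical
  haveI := Fintype.ofFinite G
  set n := (centralizer ({x} : Set G)).index with hn
  have hnot : ∀ p k : ℕ, p.Prime → n ≠ p ^ k := fun p k hp e => by
    haveI : Fact (Nat.card G).Prime := ⟨Cfsg.Lib.Char.prime_card_of_class_prime_pow hp hx
      ((Cfsg.Lib.Char.card_classFinset x).trans e)⟩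
    haveI : IsCyclic G := isCyclic_of_prime_card rfl
    exact hna IsCyclic.isMulCommutative
  have hn1 : n ≠ 1 := fun h => hnot 2 0 Nat.prime_two (by rw [h, pow_zero])
  obtain ⟨p, hp, hpn⟩ := Nat.exists_prime_and_dvd hn1
  have hn0 : n ≠ 0 := index_ne_zero_of_finite
  refine ⟨p, ?_⟩
  by_contra hq
  push Not at hq
  obtain ⟨k, hk⟩ : ∃ k, n = p ^ k :=
    ⟨_, Nat.eq_prime_pow_of_unique_prime_dvd hn0 fun {q} hq' hqn => by
      by_contra hne
      exact hq q hp hq' (Ne.symm hne) hpn hqn⟩
  exact hnot p k hp hk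

end Cfsg.Lib.ConjRankThree
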