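import Cfsg.Agent.Lib.Char.CAEven
import Cfsg.Agent.Lib.Char.Formulas

/-!
# The products of two classes with coprime centralisers

`B` is abelian and the centraliser of its non-identity elements.  If `z` and all `z y` avoid the
conjugates of `B`, and `G = C(z) C(y)`, then all `z y` are conjugate: the characters not vanishing at
`z` are constant on the non-identity elements of `B`.
-/

set_option autoImplicit false
set_option linter.style.haveILetI false
set_option linter.unusedSectionVars false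

namespace Cfsg.Lib.ConjRankThree

open Cfsg Cfsg.Lib.Char Cfsg.Lib.Char.CAEven Subgroup Cfsg.Lib.Local.CNNode
open scoped ComplexConjugate

universe u

variable {G : Type u} [Group G] [Fintype G] {B : Subgroup G}

theorem beta_eq_zero (μ ν : B →* ℂˣ) {g : G} (hg : ∀ x : G, x * g * x⁻¹ ∉ B) :
    CAEven.beta B μ ν g = 0 := by
  rw [CAEven.beta, indFun, Finset.sum_eq_zero, mul_zero]
  intro x _
  refine extendByZero_of_notMem B _ ?_
  have := hg x⁻¹
  rwa [inv_inv] at this

theorem char_mul_of_prod {χ : G → ℂ} (hχ : IsIrrCharacter G χ) {z y : G}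
    (hprod : ∀ g : G, ∃ α ∈ centralizer ({z} : Set G), ∃ β ∈ centralizer ({y} : Set G), g = α * β) :
    χ (z * y) * χ 1 = χ z * χ y := by
  have h := sum_char_mul_conj hχ z y
  have hterm : ∀ x : G, χ (z * (x * y * x⁻¹)) = χ (z * y) := by
    intro x
    obtain ⟨α, hα, β, hβ, rfl⟩ := hprod x
    rw [mem_centralizer_singleton_iff] at hα hβ
    rw [show z * (α * β * y * (α * β)⁻¹) = α * (z * y) * α⁻¹ by
      rw [show α * β * y * (α * β)⁻¹ = α * (β * y * β⁻¹) * α⁻¹ by group,
        mul_inv_eq_iff_eq_mul.2 hβ, ← mul_assoc, ← mul_assoc, ← hα]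
      group]
    exact hχ.isCharacter.isClassFunction _ _
  rw [Finset.sum_congr rfl fun x _ => hterm x, Finset.sum_const, Finset.card_univ, nsmul_eq_mul,
    ← Nat.card_eq_fintype_card, eq_div_iff hχ.apply_one_ne_zero] at h
  refine mul_left_cancel₀ (card_cast_ne_zero (G := G)) ?_
  linear_combination h

/-- A character not vanishing at `z` is constant on the non-identity elements of `B`. -/
theorem const_of_ne_zero (h : IsCA B) {z : G} (hz : ∀ g : G, g * z * g⁻¹ ∉ B)
    (hzy : ∀ y ∈ B, y ≠ 1 → ∀ g : G, g * (z * y) * g⁻¹ ∉ B)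
    (hprod : ∀ y ∈ B, y ≠ 1 → ∀ g : G,
      ∃ α ∈ centralizer ({z} : Set G), ∃ β ∈ centralizer ({y} : Set G), g = α * β)
    {χ : G → ℂ} (hχ : IsIrrCharacter G χ) (hχz : χ z ≠ 0) {k k' : B} (hk : k ≠ 1) (hk' : k' ≠ 1) :
    χ (k : G) = χ (k' : G) := by
  classical
  haveI := Fintype.ofFinite B
  haveI := Fintype.ofFinite (normalizer (B : Set G))
  let coef : (B →* ℂˣ) → ℂ := fun f => classInner (fun k : B => (f k : ℂ)) (fun k : B => χ (k : G))
  have horth : ∀ μ ν : NT B, coef μ.1 = coef ν.1 := by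
    intro μ ν
    obtain ⟨ε, X, c, hε, hX, hbeta, -⟩ := exists_exceptional h μ
    have hεne : ε ≠ 0 := by rcases hε with rfl | rfl <;> norm_num
    have h1 := classInner_indFun B (fun k : B => (μ.1 k : ℂ) - (ν.1 k : ℂ))
      hχ.isCharacter.isClassFunction
    rw [show indFun B (fun k : B => (μ.1 k : ℂ) - (ν.1 k : ℂ)) = CAEven.beta B μ.1 ν.1 from rfl,
      show (fun k : B => (μ.1 k : ℂ) - (ν.1 k : ℂ)) =
        (fun k : B => (μ.1 k : ℂ)) - fun k : B => (ν.1 k : ℂ) from rfl, classInner_sub_left] at h1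
    suffices h0 : classInner (CAEven.beta B μ.1 ν.1) χ = 0 by
      rw [h0] at h1
      exact sub_eq_zero.1 h1.symm
    by_contra hne
    have hmem : X ⟦μ⟧ = χ ∨ X ⟦ν⟧ = χ := by
      by_contra hno
      push Not at hno
      apply hne
      rw [hbeta, classInner_smul_left, classInner_sub_left, classInner_irr_ne (hX _) hχ hno.1,
        classInner_irr_ne (hX _) hχ hno.2, sub_zero, mul_zero]
    -- the two characters agree off the conjugates of `B`
    have hoff : ∀ g : G, (∀ x : G, x * g * x⁻¹ ∉ B) → X ⟦μ⟧ g = X ⟦ν⟧ g := by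
      intro g hg
      have := beta_eq_zero μ.1 ν.1 hg
      rw [hbeta, Pi.smul_apply, Pi.sub_apply, smul_eq_mul, mul_eq_zero, sub_eq_zero] at this
      exact this.resolve_left hεne
    have hone : X ⟦μ⟧ 1 = X ⟦ν⟧ 1 := by
      have := CAEven.beta_one (A := B) μ.1 ν.1
      rw [hbeta, Pi.smul_apply, Pi.sub_apply, smul_eq_mul, mul_eq_zero, sub_eq_zero] at this
      exact this.resolve_left hεne
    have hXz : X ⟦μ⟧ z ≠ 0 := by
      rcases hmem with e | e
      · rw [e]; exact hχz
      · rw [hoff z hz, e]; exact hχz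
    have hres : (fun k : B => CAEven.beta B μ.1 ν.1 (k : G)) = 0 := by
      funext k
      show CAEven.beta B μ.1 ν.1 (k : G) = 0
      by_cases hk1 : k = 1
      · rw [hk1]; exact CAEven.beta_one μ.1 ν.1
      have hk1' : (k : G) ≠ 1 := fun e => hk1 (Subtype.ext e)
      have e1 := char_mul_of_prod (hX ⟦μ⟧) (hprod k k.2 hk1')
      have e2 := char_mul_of_prod (hX ⟦ν⟧) (hprod k k.2 hk1')
      rw [← hoff z hz, ← hoff (z * k) (hzy k k.2 hk1'), ← hone, e1] at e2
      rw [hbeta, Pi.smul_apply, Pi.sub_apply, smul_eq_mul, mul_left_cancel₀ hXz e2, sub_self, mul_zero]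
    refine hne ?_
    have h0 : CAEven.beta B μ.1 ν.1 = 0 := eq_zero_of_classInner_self (by
      conv_lhs => arg 1; rw [CAEven.beta]
      rw [classInner_indFun B _ (CAEven.beta_gen μ.1 ν.1).isClassFunction, hres, classInner_zero_right])
    rw [h0, classInner_zero_left]
  -- expansion on `B`
  obtain ⟨n₁, hn₁⟩ : ∃ n₁, ∀ ν : NT B, coef ν.1 = n₁ := by
    by_cases hne : Nonempty (NT B)
    · obtain ⟨μ₀⟩ := hne
      exact ⟨coef μ₀.1, fun ν => horth ν μ₀⟩
    · exact ⟨0, fun ν => absurd ⟨ν⟩ hne⟩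
  have hlin : ∀ l : IrrCharacter B, ∃ f : B →* ℂˣ, ∀ k, (l : B → ℂ) k = (f k : ℂ) := by
    intro l
    obtain ⟨f, hf⟩ := exists_hom_of_degree_one l.2.isCharacter
      (degree_eq_one_of_comm (fun a b => Subtype.ext (h.comm a a.2 b b.2)) l.2)
    exact ⟨f, fun k => congrFun hf k⟩
  have hval : ∀ j : B, j ≠ 1 → χ (j : G) = conj (coef 1) - conj n₁ := by
    intro j hj
    have hcl : IsClassFunction B (fun k : B => χ (k : G)) := fun a b => by
      show χ ((b * a * b⁻¹ : B) : G) = χ a
      exact hχ.isCharacter.isClassFunction _ _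
    have h1 := congrFun (eq_sum_classInner hcl) j
    let one : IrrCharacter B := ⟨fun _ => 1, isIrrCharacter_one⟩
    have hl : ∀ l : IrrCharacter B, classInner (fun k : B => χ (k : G)) (l : B → ℂ) =
        conj n₁ + if l = one then conj (coef 1) - conj n₁ else 0 := by
      intro l
      obtain ⟨f, hf⟩ := hlin l
      rw [show (l : B → ℂ) = fun k => (f k : ℂ) from funext hf, ← classInner_conj_symm]
      change conj (coef f) = _
      by_cases hf1 : f = 1
      · rw [if_pos (Subtype.ext (funext fun k => by rw [hf, hf1]; rfl)), hf1]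
        ring
      · rw [if_neg, hn₁ ⟨f, hf1⟩, add_zero]
        intro e
        apply hf1
        refine MonoidHom.ext fun k => Units.ext ?_
        rw [← hf, e]; rfl
    rw [Finset.sum_apply] at h1
    simp only [Pi.smul_apply, smul_eq_mul, hl, add_mul, Finset.sum_add_distrib, ← Finset.mul_sum,
      ite_mul, zero_mul, Finset.sum_ite_eq', Finset.mem_univ, if_true] at h1
    have h3 : ∑ l : IrrCharacter B, (l : B → ℂ) j = 0 := by
      have h4 := column_orthogonality (G := B) j 1
      rw [if_neg (fun e => hj (isConj_one_left.mp e))] at h4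
      refine (Finset.sum_congr rfl fun l _ => ?_).trans h4
      obtain ⟨f, hf⟩ := hlin l
      rw [hf 1, map_one, Units.val_one, map_one, mul_one]
    rw [h1, h3, mul_zero, zero_add]
    show _ * 1 = _
    ring
  rw [hval k hk, hval k' hk']

/-- All products `z y` are conjugate. -/
theorem isConj_mul (h : IsCA B) {z : G} (hz : ∀ g : G, g * z * g⁻¹ ∉ B)
    (hzy : ∀ y ∈ B, y ≠ 1 → ∀ g : G, g * (z * y) * g⁻¹ ∉ B)
    (hprod : ∀ y ∈ B, y ≠ 1 → ∀ g : G,
      ∃ α ∈ centralizer ({z} : Set G), ∃ β ∈ centralizer ({y} : Set G), g = α * β)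
    {y y' : G} (hy : y ∈ B) (hy1 : y ≠ 1) (hy' : y' ∈ B) (hy'1 : y' ≠ 1) :
    IsConj (z * y) (z * y') := by
  rw [isConj_iff_forall_irr]
  intro χ
  have e := char_mul_of_prod χ.2 (hprod y hy hy1)
  have e' := char_mul_of_prod χ.2 (hprod y' hy' hy'1)
  refine mul_right_cancel₀ χ.2.apply_one_ne_zero ?_
  rw [e, e']
  by_cases hχz : (χ : G → ℂ) z = 0
  · rw [hχz, zero_mul, zero_mul]
  · rw [const_of_ne_zero h hz hzy hprod χ.2 hχz (k := ⟨y, hy⟩) (k' := ⟨y', hy'⟩)
      (fun e => hy1 (congrArg Subtype.val e)) (fun e => hy'1 (congrArg Subtype.val e))]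

end Cfsg.Lib.ConjRankThree
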