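import Cfsg.Agent.Lib.ConjRankThree.Basic
import Cfsg.Agent.Lib.ConjRankThree.Class
import Cfsg.Agent.Lib.Fusion.Abelian
import Cfsg.Agent.Lib.Solv.ComplementStructure
import Cfsg.Agent.Lib.PGroup.Elements

/-!
# A centraliser order properly dividing another one is impossible

`a`, `b` maximal and `c ∣ a`.  If also `c ∣ b` there are commuting elements of types `a` and `b`, and one
of them centralises the whole class of the other.  Otherwise `B` is an abelian TI Hall subgroup, all
`z y` form one class, so `c (|B| - 1) ≤ k |B|` with `k = |N(B) : B|`, while a central element of the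
Frobenius complement of order `k` has a centraliser of order `c ≥ 2 k`.
-/

set_option autoImplicit false
set_option linter.style.haveILetI false
set_option linter.unusedSectionVars false

open Subgroup

namespace Cfsg.Lib.ConjRankThree

universe u

variable {G : Type u} [Group G] [Finite G]

/-- Three orders, two of them maximal. -/
structure Three (G : Type u) [Group G] (a b c : ℕ) : Prop where
  cases : ∀ x : G, x ≠ 1 → val x = a ∨ val x = b ∨ val x = c
  exa : ∃ x : G, x ≠ 1 ∧ val x = a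
  exb : ∃ x : G, x ≠ 1 ∧ val x = b
  exc : ∃ x : G, x ≠ 1 ∧ val x = c
  ca : c ∣ a
  hca : c ≠ a
  nab : ¬ a ∣ b
  nba : ¬ b ∣ a

namespace Three

variable {a b c : ℕ} (h : Three G a b c)

include h

theorem nac : ¬ a ∣ c := fun e => h.hca (Nat.dvd_antisymm h.ca e)

theorem nbc : ¬ b ∣ c := fun e => h.nba (e.trans h.ca)

theorem val_a {x : G} (hx : x ≠ 1) (hd : a ∣ val x) : val x = a := by
  rcases h.cases x hx with e | e | e
  · exact e
  · exact absurd (e ▸ hd) h.nab
  · exact absurd (e ▸ hd) h.nac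

theorem val_b {x : G} (hx : x ≠ 1) (hd : b ∣ val x) : val x = b := by
  rcases h.cases x hx with e | e | e
  · exact absurd (e ▸ hd) h.nba
  · exact e
  · exact absurd (e ▸ hd) h.nbc

theorem eq_b {x y : G} (hx : val x = b) (hy : y ≠ 1)
    (hle : centralizer ({x} : Set G) ≤ centralizer ({y} : Set G)) :
    centralizer ({x} : Set G) = centralizer ({y} : Set G) :=
  eq_of_le_of_val hle (by rw [hx, h.val_b hy (hx ▸ val_dvd hle)])

/-- Every prime is full in `a` or in `b`. -/
theorem full_or {p : ℕ} [Fact p.Prime] (hp : p ∣ Nat.card G) : Full G p a ∨ Full G p b := by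
  obtain ⟨z, -, hz1, -, -, hf⟩ := exists_central hp (Classical.arbitrary (Sylow p G))
  rcases h.cases z hz1 with e | e | e
  · exact Or.inl (e ▸ hf)
  · exact Or.inr (e ▸ hf)
  · exact Or.inl ((e ▸ hf : Full G p c).trans h.ca)

/-- The class sizes are coprime. -/
theorem coprime_index {x y : G} (hx : val x = a) (hy : val y = b) :
    (centralizer ({x} : Set G)).index.Coprime (centralizer ({y} : Set G)).index := by
  rw [Nat.coprime_iff_gcd_eq_one]
  by_contra hne
  obtain ⟨p, hp, hd⟩ := Nat.exists_prime_and_dvd hne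
  haveI := Fact.mk hp
  have hpx := hd.trans (Nat.gcd_dvd_left _ _)
  have hpy := hd.trans (Nat.gcd_dvd_right _ _)
  have key : ∀ w : G, p ∣ (centralizer ({w} : Set G)).index → ¬ Full G p (val w) := fun w hw hf => by
    have h1 := mul_dvd_mul hf hw
    rw [val, card_mul_index, ← pow_succ] at h1
    have := (hp.pow_dvd_iff_le_factorization Nat.card_pos.ne').1 h1
    omega
  rcases h.full_or (hpx.trans (index_dvd_card _)) with e | e
  · exact key x hpx (hx ▸ e)
  · exact key y hpy (hy ▸ e)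

theorem exists_mul {x y : G} (hx : val x = a) (hy : val y = b) (g : G) :
    ∃ α ∈ centralizer ({x} : Set G), ∃ β ∈ centralizer ({y} : Set G), g = α * β :=
  exists_mul_of_indices (h.coprime_index hx hy) g

variable [IsSimpleGroup G] (hna : ¬ IsMulCommutative G)

include hna

/-- No commuting pair of types `a` and `b`. -/
theorem not_commute {x y : G} (hx1 : x ≠ 1) (hy1 : y ≠ 1) (hx : val x = a) (hy : val y = b) :
    ¬ Commute x y := by
  intro hc
  have hne : centralizer ({x} : Set G) ≠ ⊤ := fun e =>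
    (val_lt hna hx1).ne (by rw [val, e, card_top])
  refine hy1 (eq_one_of_class_le hne fun g => ?_)
  obtain ⟨α, hα, β, hβ, rfl⟩ := h.exists_mul hx hy g
  have hyx : y ∈ centralizer ({x} : Set G) := mem_cent.2 hc.symm
  rw [show α * β * y * (α * β)⁻¹ = α * (β * y * β⁻¹) * α⁻¹ by group,
    (mem_cent.1 hβ).eq, mul_inv_cancel_right]
  exact mul_mem (mul_mem hα hyx) (inv_mem hα)

/-- A prime which is not full in the other order. -/
theorem exists_not_full {x : G} (hx1 : x ≠ 1) :
    ∃ p q : ℕ, p.Prime ∧ q.Prime ∧ p ≠ q ∧ p ∣ Nat.card G ∧ q ∣ Nat.card G ∧ ¬ Full G p (val x) ∧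
      ¬ Full G q (val x) := by
  obtain ⟨p, q, hp, hq, hpq, hpd, hqd⟩ := exists_two_primes hna hx1
  have key : ∀ r : ℕ, r.Prime → r ∣ (centralizer ({x} : Set G)).index → ¬ Full G r (val x) := by
    intro r hr hd hf
    have h1 := mul_dvd_mul hf hd
    rw [val, card_mul_index, ← pow_succ] at h1
    have := (hr.pow_dvd_iff_le_factorization Nat.card_pos.ne').1 h1
    omega
  exact ⟨p, q, hp, hq, hpq, hpd.trans (index_dvd_card _), hqd.trans (index_dvd_card _), key p hp hpd,
    key q hq hqd⟩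

/-! ### `c ∣ b` -/

theorem pair_of_central (hcb : c ∣ b) {s : ℕ} [hs : Fact s.Prime] (hsc : s ∣ c)
    (hsG : s ∣ Nat.card G) (hnf : ¬ Full G s c)
    (hb : ∃ S : Sylow s G, ∀ z ∈ (S : Subgroup G), z ≠ 1 →
      (S : Subgroup G) ≤ centralizer ({z} : Set G) → val z = b) : False := by
  obtain ⟨x, hx1, hx⟩ := h.exb
  obtain ⟨r, -, hr, -, -, hrG, -, hrb, -⟩ := h.exists_not_full hna hx1
  rw [hx] at hrb
  haveI := Fact.mk hr
  obtain ⟨u, huR, hu1, -, ⟨i, hi⟩, huf⟩ := exists_central hrG (Classical.arbitrary (Sylow r G))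
  have hua : val u = a := by
    rcases h.cases u hu1 with e | e | e
    · exact e
    · exact absurd (e ▸ huf) hrb
    · exact absurd ((e ▸ huf : Full G r c).trans hcb) hrb
  obtain ⟨S, hS⟩ := hb
  have hsr : s ≠ r := by
    rintro rfl
    obtain ⟨v, hvS, hv1, hvle, -, hvf⟩ := exists_central hsG S
    exact hrb (hS v hvS hv1 hvle ▸ hvf)
  -- an `s`-element of `C(u)`
  obtain ⟨⟨w, hw⟩, hw'⟩ := exists_prime_orderOf_dvd_card'
    (G := centralizer ({u} : Set G)) s (by rw [← val, hua]; exact hsc.trans h.ca)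
  rw [Subgroup.orderOf_mk] at hw'
  have hw1 : w ≠ 1 := fun e => hs.out.one_lt.ne (by rw [← hw', e, orderOf_one])
  have hwu : Commute w u := mem_cent.1 hw
  -- a conjugate of the central element commuting with `w`
  obtain ⟨v, hvw, hv1, hvb⟩ : ∃ v, Commute v w ∧ v ≠ 1 ∧ val v = b := by
    obtain ⟨T, hT⟩ := (IsPGroup.of_card (n := 1) (by rw [Nat.card_zpowers, hw', pow_one]) :
      IsPGroup s (zpowers w)).exists_le_sylow
    obtain ⟨v, hvS, hv1, hvle, -, -⟩ := exists_central hsG S
    obtain ⟨g, hg⟩ := MulAction.exists_smul_eq G S T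
    refine ⟨g * v * g⁻¹, ?_, fun e => hv1 (conj_eq_one_iff.1 e), by
      rw [val_conj]; exact hS v hvS hv1 hvle⟩
    have hwT := hT (mem_zpowers w)
    rw [← hg, Sylow.coe_subgroup_smul] at hwT
    obtain ⟨w₀, hw₀, rfl⟩ := hwT
    have := ((mem_cent.1 (hvle hw₀)).symm).map (MulAut.conj g).toMonoidHom
    simpa using this
  rcases h.cases w hw1 with e | e | e
  · exact h.not_commute hna hw1 hv1 e hvb hvw.symm
  · exact h.not_commute hna hu1 hw1 hua e hwu.symm
  · -- `C(w)` centralises `u`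
    have hco : (orderOf w).Coprime (orderOf u) :=
      coprime_pow hsr (i := 1) (by rw [hw', pow_one]) hi
    have hle := cent_mul_le hwu hco
    have hd : val (w * u) ∣ c := e ▸ val_dvd (hle.trans inf_le_left)
    have hwu1 := mul_ne_one hw1 hco
    have hval : val (w * u) = c := by
      rcases h.cases _ hwu1 with e' | e' | e'
      · exact absurd (e' ▸ hd) h.nac
      · exact absurd (e' ▸ hd) h.nbc
      · exact e'
    have heq := eq_of_le_of_val (hle.trans inf_le_left) (hval.trans e.symm)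
    have hv : v ∈ centralizer ({w * u} : Set G) := heq ▸ mem_cent.2 hvw
    exact h.not_commute hna hu1 hv1 hua hvb (mem_cent.1 (hle hv).2).symm

omit [IsSimpleGroup G] hna in
theorem symm (hcb : c ∣ b) : Three G b a c :=
  ⟨fun x hx => by rcases h.cases x hx with e | e | e <;> simp [e], h.exb, h.exa, h.exc, hcb,
    fun e => h.nbc (e ▸ dvd_rfl), h.nba, h.nab⟩

theorem false_of_dvd (hcb : c ∣ b) : False := by
  obtain ⟨x, hx1, hx⟩ := h.exc
  have hc1 : c ≠ 1 := (hx ▸ one_lt_val hx1).ne'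
  obtain ⟨s, hs, hsc⟩ := Nat.exists_prime_and_dvd hc1
  haveI := Fact.mk hs
  have hsG : s ∣ Nat.card G := hsc.trans (hx ▸ val_dvd_card x)
  by_cases hf : Full G s c
  · -- every element centralises a Sylow `s`-subgroup
    obtain ⟨S⟩ : Nonempty (Sylow s G) := inferInstance
    have hcov : ∀ y : G, ∃ g : G, g * y * g⁻¹ ∈ centralizer ((S : Subgroup G) : Set G) := by
      intro y
      rcases eq_or_ne y 1 with rfl | hy
      · exact ⟨1, by simp⟩
      have hfy : Full G s (val y) := by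
        rcases h.cases y hy with e | e | e <;> rw [e]
        exacts [hf.trans h.ca, hf.trans hcb, hf]
      obtain ⟨P⟩ : Nonempty (Sylow s (centralizer ({y} : Set G))) := inferInstance
      have hPcard : Nat.card ((P : Subgroup (centralizer ({y} : Set G))).map
          (centralizer ({y} : Set G)).subtype) = Nat.card S := by
        rw [card_map_of_injective (centralizer ({y} : Set G)).subtype_injective]
        refine Nat.dvd_antisymm ?_ ?_
        · have hp := (P.2.map (centralizer ({y} : Set G)).subtype)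
          obtain ⟨T, hT⟩ := hp.exists_le_sylow
          have := card_dvd_of_le hT
          rwa [card_map_of_injective (centralizer ({y} : Set G)).subtype_injective,
            T.card_eq_multiplicity, ← S.card_eq_multiplicity] at this
        · rw [S.card_eq_multiplicity, P.card_eq_multiplicity]
          exact pow_dvd_pow s ((hs.pow_dvd_iff_le_factorization Nat.card_pos.ne').1 hfy)
      obtain ⟨g, hg⟩ := MulAction.exists_smul_eq G S
        (Sylow.ofCard _ (by rw [hPcard, S.card_eq_multiplicity]) : Sylow s G)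
      refine ⟨g⁻¹, mem_centralizer_iff.2 fun t ht => ?_⟩
      have h1 : g * t * g⁻¹ ∈ (P : Subgroup (centralizer ({y} : Set G))).map
          (centralizer ({y} : Set G)).subtype := by
        have h2 : g * t * g⁻¹ ∈ ((g • S : Sylow s G) : Subgroup G) := by
          rw [Sylow.coe_subgroup_smul]; exact ⟨t, ht, rfl⟩
        rw [hg] at h2
        exact h2
      obtain ⟨m, -, hm⟩ := h1
      have hc : Commute (g * t * g⁻¹) y := hm ▸ mem_cent.1 m.2
      have := hc.map (MulAut.conj g⁻¹).toMonoidHom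
      simp only [MulEquiv.coe_toMonoidHom, MulAut.conj_apply, inv_inv] at this
      rw [show g⁻¹ * (g * t * g⁻¹) * g = t by group] at this
      simpa using this.eq
    have htop := Cfsg.Lib.PGroup.eq_top_of_forall_exists_conj_mem (H := centralizer ((S : Subgroup G) : Set G)) hcov
    have hSc : (S : Subgroup G) ≤ center G := fun t ht => mem_center_iff.2 fun g =>
      ((mem_centralizer_iff.1 (htop ▸ mem_top g : g ∈ centralizer ((S : Subgroup G) : Set G))) t ht).symm
    rw [center_eq_bot hna, le_bot_iff] at hSc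
    exact sylow_ne_bot hsG S hSc
  · obtain ⟨S⟩ : Nonempty (Sylow s G) := inferInstance
    obtain ⟨z, hzS, hz1, hzle, -, hzf⟩ := exists_central hsG S
    rcases h.cases z hz1 with e | e | e
    · refine (h.symm hcb).pair_of_central hna h.ca hsc hsG hf ⟨S, fun v hvS hv1 hvle => ?_⟩
      rcases h.cases v hv1 with e' | e' | e'
      · exact e'
      · exact absurd (mem_cent.1 (hvle hzS)) (h.not_commute hna hz1 hv1 e e')
      · exact absurd (e' ▸ (full_iff S _).2 (card_dvd_of_le hvle)) hf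
    · refine h.pair_of_central hna hcb hsc hsG hf ⟨S, fun v hvS hv1 hvle => ?_⟩
      rcases h.cases v hv1 with e' | e' | e'
      · exact absurd (mem_cent.1 (hzle hvS)) (h.not_commute hna hv1 hz1 e' e)
      · exact e'
      · exact absurd (e' ▸ (full_iff S _).2 (card_dvd_of_le hvle)) hf
    · exact hf (e ▸ hzf)

/-! ### `c` does not divide `b` -/

omit [IsSimpleGroup G] hna in
theorem cent_eq_of_coprime (hcb : ¬ c ∣ b) {u v : G} (hu : val u = b) (hv1 : v ≠ 1) (huv : Commute v u)
    (hco : (orderOf v).Coprime (orderOf u)) :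
    centralizer ({v} : Set G) = centralizer ({u} : Set G) := by
  have hle := cent_mul_le huv hco
  have hne := mul_ne_one hv1 hco
  have hd : val (v * u) ∣ b := hu ▸ val_dvd (hle.trans inf_le_right)
  have hval : val (v * u) = b := by
    rcases h.cases _ hne with e | e | e
    · exact absurd (e ▸ hd) h.nab
    · exact e
    · exact absurd (e ▸ hd) hcb
  have e1 : centralizer ({v * u} : Set G) = centralizer ({u} : Set G) :=
    eq_of_le_of_val (hle.trans inf_le_right) (hval.trans hu.symm)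
  have e2 : centralizer ({v * u} : Set G) = centralizer ({v} : Set G) :=
    h.eq_b hval hv1 (hle.trans inf_le_left)
  rw [← e2, e1]

/-- The abelian subgroup `B`. -/
theorem exists_B [Fintype G] (hcb : ¬ c ∣ b) :
    ∃ (B : Subgroup G) (y : G), Cfsg.Lib.Char.CAEven.IsCA B ∧ Nat.card B = b ∧ y ∈ B ∧ y ≠ 1 ∧
      ∃ p q : ℕ, p.Prime ∧ q.Prime ∧ p ≠ q ∧ p ∣ Nat.card G ∧ Full G p b ∧ q ∣ b ∧ p ∣ b := by
  obtain ⟨x, hx1, hx⟩ := h.exa
  obtain ⟨r, q, hr, hq, hrq, hrG, hqG, hra, hqa⟩ := h.exists_not_full hna hx1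
  rw [hx] at hra hqa
  haveI := Fact.mk hr
  haveI := Fact.mk hq
  have hfull : ∀ {p : ℕ} [Fact p.Prime], p ∣ Nat.card G → ¬ Full G p a → Full G p b ∧ p ∣ b := by
    intro p hp hd hnf
    have hfb := (h.full_or hd).resolve_left hnf
    exact ⟨hfb, (dvd_pow_self p (hp.out.factorization_pos_of_dvd Nat.card_pos.ne' hd).ne').trans hfb⟩
  obtain ⟨y, -, hy1, -, ⟨i, hi⟩, hyf⟩ := exists_central hrG (Classical.arbitrary (Sylow r G))
  have hyb : val y = b := by
    rcases h.cases y hy1 with e | e | e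
    · exact absurd (e ▸ hyf) hra
    · exact e
    · exact absurd ((e ▸ hyf : Full G r c).trans h.ca) hra
  obtain ⟨B, hB⟩ : ∃ B, B = centralizer ({y} : Set G) := ⟨_, rfl⟩
  obtain ⟨⟨v, hv⟩, hv'⟩ := exists_prime_orderOf_dvd_card' (G := centralizer ({y} : Set G)) q
    (by rw [← val, hyb]; exact (hfull hqG hqa).2)
  rw [Subgroup.orderOf_mk] at hv'
  have hv1 : v ≠ 1 := fun e => hq.one_lt.ne (by rw [← hv', e, orderOf_one])
  have hvB : centralizer ({v} : Set G) = B := hB ▸ h.cent_eq_of_coprime hcb hyb hv1 (mem_cent.1 hv)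
    (coprime_pow hrq.symm (i := 1) (by rw [hv', pow_one]) hi)
  have hvb : val v = b := by rw [val, hvB, hB]; exact hyb
  have hpp : ∀ (p : ℕ) [Fact p.Prime], ∀ w ∈ B, ∀ j, orderOf w = p ^ j → w ≠ 1 →
      centralizer ({w} : Set G) = B := by
    intro p _ w hw j hj hw1
    by_cases hpr : p = r
    · rw [← hvB] at hw ⊢
      exact h.cent_eq_of_coprime hcb hvb hw1 (mem_cent.1 hw)
        (coprime_pow (hpr ▸ hrq) (j := 1) hj (by rw [hv', pow_one]))
    · rw [hB] at hw ⊢
      exact h.cent_eq_of_coprime hcb hyb hw1 (mem_cent.1 hw) (coprime_pow hpr hj hi)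
  have hcomm : ∀ a₁ ∈ B, ∀ a₂ ∈ B, a₁ * a₂ = a₂ * a₁ := by
    have hle : B ≤ centralizer (B : Set G) := le_of_primePow fun p _ w hw j hj => by
      rcases eq_or_ne w 1 with rfl | hw1
      · exact one_mem _
      · refine mem_centralizer_iff.2 fun u hu => ?_
        rw [SetLike.mem_coe, ← hpp p w hw j hj hw1] at hu
        exact (mem_cent.1 hu).eq
    intro a₁ h₁ a₂ h₂
    exact (mem_centralizer_iff.1 (hle h₁) a₂ h₂).symm
  refine ⟨B, y, ⟨hcomm, fun w hw hw1 => ?_⟩, hB ▸ hyb, hB ▸ self_mem y, hy1, r, q, hr, hq, hrq, hrG,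
    (hfull hrG hra).1, (hfull hqG hqa).2, (hfull hrG hra).2⟩
  have hle : centralizer ({y} : Set G) ≤ centralizer ({w} : Set G) := fun g hg =>
    mem_cent.2 (hcomm g (hB ▸ hg) w hw)
  rw [hB]
  exact (h.eq_b hyb hw1 hle).symm

variable {B : Subgroup G}

omit [IsSimpleGroup G] hna in
theorem val_of_mem [Fintype G] (hB : Cfsg.Lib.Char.CAEven.IsCA B) (hcard : Nat.card B = b) {x : G}
    (hx1 : x ≠ 1) {g : G} (hx : g * x * g⁻¹ ∈ B) : val x = b := by
  rw [← val_conj g, val, hB.cent _ hx (fun e => hx1 (conj_eq_one_iff.1 e)), hcard]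

omit [IsSimpleGroup G] hna in
theorem coprime_orders [Fintype G] (hB : Cfsg.Lib.Char.CAEven.IsCA B) (hcard : Nat.card B = b) :
    Nat.Coprime a b := by
  rw [Nat.coprime_iff_gcd_eq_one]
  by_contra hne
  obtain ⟨s, hs, hd⟩ := Nat.exists_prime_and_dvd hne
  haveI := Fact.mk hs
  obtain ⟨z, hz1, hz⟩ := h.exa
  have hsa := hd.trans (Nat.gcd_dvd_left _ _)
  have hsb := hd.trans (Nat.gcd_dvd_right _ _)
  have hsG : s ∣ Nat.card G := hsa.trans (hz ▸ val_dvd_card z)
  by_cases hfb : Full G s b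
  · obtain ⟨⟨w, hw⟩, hw'⟩ := exists_prime_orderOf_dvd_card' (G := centralizer ({z} : Set G)) s
      (by rw [← val, hz]; exact hsa)
    rw [Subgroup.orderOf_mk] at hw'
    have hw1 : w ≠ 1 := fun e => hs.one_lt.ne (by rw [← hw', e, orderOf_one])
    -- a Sylow subgroup of `G` inside `B`
    obtain ⟨k, hk⟩ := Sylow.exists_subgroup_card_pow_prime (G := B) s (hcard.symm ▸ hfb)
    let T : Sylow s G := Sylow.ofCard (k.map B.subtype)
      (by rw [card_map_of_injective B.subtype_injective, hk])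
    obtain ⟨W, hW⟩ := (IsPGroup.of_card (n := 1) (by rw [Nat.card_zpowers, hw', pow_one]) :
      IsPGroup s (zpowers w)).exists_le_sylow
    obtain ⟨g, hg⟩ := MulAction.exists_smul_eq G W T
    have hwB : g * w * g⁻¹ ∈ B := by
      have h1 : g * w * g⁻¹ ∈ ((g • W : Sylow s G) : Subgroup G) := by
        rw [Sylow.coe_subgroup_smul]; exact ⟨w, hW (mem_zpowers w), rfl⟩
      rw [hg] at h1
      exact map_subtype_le k h1
    have hzB : g * z * g⁻¹ ∈ B := by
      rw [← hB.cent _ hwB (fun e => hw1 (conj_eq_one_iff.1 e))]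
      have := (mem_cent.1 hw).symm.map (MulAut.conj g).toMonoidHom
      exact mem_cent.2 (by simpa using this)
    exact h.nab (dvd_of_eq (hz.symm.trans (h.val_of_mem hB hcard hz1 hzB)))
  · obtain ⟨⟨v, hv⟩, hv'⟩ := exists_prime_orderOf_dvd_card' (G := B) s (hcard.symm ▸ hsb)
    rw [Subgroup.orderOf_mk] at hv'
    have hv1 : v ≠ 1 := fun e => hs.one_lt.ne (by rw [← hv', e, orderOf_one])
    obtain ⟨T, hT⟩ := (IsPGroup.of_card (n := 1) (by rw [Nat.card_zpowers, hv', pow_one]) :
      IsPGroup s (zpowers v)).exists_le_sylow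
    obtain ⟨u, -, hu1, hule, -, huf⟩ := exists_central hsG T
    have huB : u ∈ B := by
      rw [← hB.cent v hv hv1]
      exact mem_cent.2 (mem_cent.1 (hule (hT (mem_zpowers v)))).symm
    exact hfb (h.val_of_mem hB hcard hu1 (g := 1) (by simpa using huB) ▸ huf)

omit [IsSimpleGroup G] hna in
theorem card_eq [Fintype G] (hB : Cfsg.Lib.Char.CAEven.IsCA B) (hcard : Nat.card B = b) :
    Nat.card G = a * b := by
  obtain ⟨z, -, hz⟩ := h.exa
  refine (eq_card_of_full ((h.coprime_orders hB hcard).mul_dvd_of_dvd_of_dvd (hz ▸ val_dvd_card z)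
    (hcard ▸ card_subgroup_dvd_card B)) fun p _ hp => ?_).symm
  rcases h.full_or hp with e | e
  exacts [e.trans (dvd_mul_right a b), e.trans (dvd_mul_left b a)]

omit h in
/-- A product class as large as the second factor. -/
theorem translate {u w : G} (hu1 : u ≠ 1) (hw1 : w ≠ 1)
    (hprod : ∀ g : G, ∃ α ∈ centralizer ({u} : Set G), ∃ β ∈ centralizer ({w} : Set G), g = α * β)
    (he : val (u * w) = val w) : False := by
  classical
  haveI := Fintype.ofFinite G
  open Cfsg.Lib.Char in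
  have hconj : ∀ u' w' : G, IsConj u u' → IsConj w w' → IsConj (u * w) (u' * w') := by
    intro u' w' hu hw
    obtain ⟨g, rfl⟩ := isConj_iff.1 hu
    obtain ⟨g', rfl⟩ := isConj_iff.1 hw
    obtain ⟨α, hα, β, hβ, e⟩ := hprod (g⁻¹ * g')
    refine isConj_iff.2 ⟨g * α, ?_⟩
    have e1 : β * w * β⁻¹ = w := mul_inv_eq_iff_eq_mul.2 (mem_cent.1 hβ).eq
    have e2 : α * u * α⁻¹ = u := mul_inv_eq_iff_eq_mul.2 (mem_cent.1 hα).eq
    rw [show g' = g * (α * β) by rw [← e, mul_inv_cancel_left],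
      show g * (α * β) * w * (g * (α * β))⁻¹ = g * α * (β * w * β⁻¹) * (g * α)⁻¹ by group, e1,
      show g * α * (u * w) * (g * α)⁻¹ = g * (α * u * α⁻¹) * g⁻¹ * (g * α * w * (g * α)⁻¹) by group, e2]
  let H : Subgroup G :=
    { carrier := {g | ∀ x, IsConj w (g * x) ↔ IsConj w x}
      one_mem' := fun x => by rw [one_mul]
      mul_mem' := fun {g g'} hg hg' x => by rw [mul_assoc]; exact (hg _).trans (hg' x)
      inv_mem' := fun {g} hg x => by
        rw [← hg (g⁻¹ * x), mul_inv_cancel_left] }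
  haveI : H.Normal := ⟨fun g hg t x => by
    have hc : ∀ y : G, IsConj w (t * y * t⁻¹) ↔ IsConj w y := fun y =>
      ⟨fun e => e.trans (isConj_iff.2 ⟨t⁻¹, by group⟩), fun e => e.trans (isConj_iff.2 ⟨t, rfl⟩)⟩
    rw [show t * g * t⁻¹ * x = t * (g * (t⁻¹ * x * t)) * t⁻¹ by group, hc, hg]
    exact ⟨fun e => e.trans (isConj_iff.2 ⟨t, by group⟩), fun e => e.trans (isConj_iff.2 ⟨t⁻¹, by group⟩)⟩⟩
  open Cfsg.Lib.Char in
  have himg : ∀ u', IsConj u u' → ∀ x, IsConj (u * w) (u' * x) → IsConj w x := by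
    intro u' hu x hx
    have hsub : (classFinset w).image (u' * ·) = classFinset (u * w) := by
      refine Finset.eq_of_subset_of_card_le (fun p hp => ?_) ?_
      · obtain ⟨q, hq, rfl⟩ := Finset.mem_image.1 hp
        exact mem_classFinset.2 (hconj _ _ hu (mem_classFinset.1 hq))
      · rw [Finset.card_image_of_injective _ (mul_right_injective u'), card_classFinset, card_classFinset,
          index_eq, index_eq, he]
    obtain ⟨q, hq, e⟩ := Finset.mem_image.1 (hsub.symm ▸ mem_classFinset.2 hx :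
      u' * x ∈ (classFinset w).image (u' * ·))
    exact mul_left_cancel e ▸ mem_classFinset.1 hq
  have hmem : ∀ u', IsConj u u' → u'⁻¹ * u ∈ H := fun u' hu x =>
    ⟨fun e => himg u (IsConj.refl u) x (by
      have := hconj u' _ hu e
      rwa [show u' * (u'⁻¹ * u * x) = u * x by group] at this),
     fun e => himg u' hu _ (by
      rw [show u' * (u'⁻¹ * u * x) = u * x by group]
      exact hconj u x (IsConj.refl u) e)⟩
  rcases Subgroup.Normal.eq_bot_or_eq_top (inferInstance : H.Normal) with e | e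
  · refine hu1 ?_
    have hc : u ∈ center G := mem_center_iff.2 fun g => by
      have := hmem (g * u * g⁻¹) (isConj_iff.2 ⟨g, rfl⟩)
      rw [e, mem_bot, inv_mul_eq_one, mul_inv_eq_iff_eq_mul] at this
      exact this
    rwa [center_eq_bot hna, mem_bot] at hc
  · have := ((e ▸ mem_top w⁻¹ : w⁻¹ ∈ H) w).2 (IsConj.refl w)
    rw [inv_mul_cancel] at this
    exact hw1 (isConj_one_left.1 this)

omit [IsSimpleGroup G] hna h in
theorem val_inv (x : G) : val x⁻¹ = val x := by
  rw [val, val]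
  congr 2
  ext g
  rw [mem_cent, mem_cent, Commute.inv_right_iff]

theorem normalizer_ne_top [Fintype G] (hcard : Nat.card B = b) : normalizer (B : Set G) ≠ ⊤ := by
  intro e
  haveI : B.Normal := normalizer_eq_top_iff.1 e
  obtain ⟨x, hx1, hx⟩ := h.exb
  rcases Subgroup.Normal.eq_bot_or_eq_top (inferInstance : B.Normal) with e' | e'
  · have := hx ▸ one_lt_val hx1
    rw [← hcard, e', card_bot] at this
    exact this.false
  · have := hx ▸ val_lt hna hx1
    rw [← hcard, e', card_top] at this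
    exact this.false

theorem false_of_not_dvd (hcb : ¬ c ∣ b) : False := by
  classical
  haveI := Fintype.ofFinite G
  obtain ⟨B, y₀, hB, hcard, hyB, hy1, r, q, hr, hq, hrq, hrG, hrfull, hqb, hrb⟩ := h.exists_B hna hcb
  haveI := Fact.mk hr
  have hy : val y₀ = b := h.val_of_mem hB hcard hy1 (g := 1) (by simpa using hyB)
  have hab := h.coprime_orders hB hcard
  have hG := h.card_eq hB hcard
  obtain ⟨z, hz1, hz⟩ := h.exa
  obtain ⟨N, hN⟩ : ∃ N, N = normalizer (B : Set G) := ⟨_, rfl⟩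
  have hBN : B ≤ N := hN ▸ le_normalizer
  have hNtop : N ≠ ⊤ := hN ▸ h.normalizer_ne_top hna hcard
  have hprod : ∀ y ∈ B, y ≠ 1 → ∀ g : G,
      ∃ α ∈ centralizer ({z} : Set G), ∃ β ∈ centralizer ({y} : Set G), g = α * β := fun y hy' hy'1 =>
    h.exists_mul hz (h.val_of_mem hB hcard hy'1 (g := 1) (by simpa using hy'))
  have hzB : ∀ g : G, g * z * g⁻¹ ∉ B := fun g hg =>
    h.nab (dvd_of_eq (hz.symm.trans (h.val_of_mem hB hcard hz1 hg)))
  have hzyb : ∀ y ∈ B, y ≠ 1 → z * y ≠ 1 ∧ val (z * y) = c := by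
    intro y hy' hy'1
    have hyb := h.val_of_mem hB hcard hy'1 (g := 1) (by simpa using hy')
    have hne : z * y ≠ 1 := fun e => hzB 1 (by
      rw [eq_inv_of_mul_eq_one_left e]; simpa using inv_mem hy')
    refine ⟨hne, ?_⟩
    rcases h.cases _ hne with e | e | e
    · refine (translate hna (u := y⁻¹) (w := z⁻¹) (inv_ne_one.2 hy'1) (inv_ne_one.2 hz1) (fun g => ?_) ?_).elim
      · obtain ⟨α, hα, β, hβ, e'⟩ := hprod y hy' hy'1 g⁻¹
        refine ⟨β⁻¹, ?_, α⁻¹, ?_, by rw [← _root_.mul_inv_rev, ← e', inv_inv]⟩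
        · exact mem_cent.2 (mem_cent.1 hβ).inv_inv
        · exact mem_cent.2 (mem_cent.1 hα).inv_inv
      · rw [← _root_.mul_inv_rev, val_inv, val_inv, e, hz]
    · exact (translate hna hz1 hy'1 (hprod y hy' hy'1) (e.trans hyb.symm)).elim
    · exact e
  have hzy : ∀ y ∈ B, y ≠ 1 → ∀ g : G, g * (z * y) * g⁻¹ ∉ B := fun y hy' hy'1 g hg => by
    obtain ⟨hne, hc⟩ := hzyb y hy' hy'1
    exact h.nbc (dvd_of_eq ((h.val_of_mem hB hcard hne hg).symm.trans hc))
  -- counting the products
  have hcount : N.index * (b - 1) ≤ (centralizer ({z * y₀} : Set G)).index := by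
    rw [← Cfsg.Lib.Char.card_classFinset, ← Nat.card_eq_finsetCard]
    have hdom : Nat.card ((G ⧸ N) × {u : B // u ≠ 1}) = N.index * (b - 1) := by
      rw [Nat.card_prod, ← index_eq_card, ← hcard]
      congr 1
      rw [Nat.card_eq_fintype_card, Nat.card_eq_fintype_card, Fintype.card_subtype_compl,
        Fintype.card_subtype_eq]
    rw [← hdom]
    have hmem : ∀ (g : G) (u : B), u ≠ 1 →
        z * (g * u * g⁻¹) ∈ Cfsg.Lib.Char.classFinset (z * y₀) := by
      intro g u hu
      have hu' : (u : G) ≠ 1 := fun e => hu (Subtype.ext e)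
      obtain ⟨α, hα, β, hβ, rfl⟩ := hprod u u.2 hu' g
      refine Cfsg.Lib.Char.mem_classFinset.2 ((isConj_mul hB hzB hzy hprod hyB hy1 u.2 hu').trans
        (isConj_iff.2 ⟨α, ?_⟩))
      rw [show α * β * u * (α * β)⁻¹ = α * (β * u * β⁻¹) * α⁻¹ by group,
        mul_inv_eq_iff_eq_mul.2 (mem_cent.1 hβ).eq,
        show α * (z * (u : G)) * α⁻¹ = α * z * α⁻¹ * (α * u * α⁻¹) by group,
        mul_inv_eq_iff_eq_mul.2 (mem_cent.1 hα).eq]
    refine Nat.card_le_card_of_injective
      (fun p => ⟨_, hmem p.1.out p.2.1 p.2.2⟩) ?_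
    rintro ⟨g, u, hu⟩ ⟨g', u', hu'⟩ e
    have e1 : g.out * (u : G) * g.out⁻¹ = g'.out * (u' : G) * g'.out⁻¹ :=
      mul_left_cancel (congrArg Subtype.val e)
    have hn : g'.out⁻¹ * g.out ∈ N := hN.ge <| hB.ti u.2 (fun e => hu (Subtype.ext e)) (by
      rw [show g'.out⁻¹ * g.out * u * (g'.out⁻¹ * g.out)⁻¹ =
        g'.out⁻¹ * (g.out * u * g.out⁻¹) * g'.out by group, e1]
      simp [mul_assoc])
    have hgg : g' = g := by
      rw [← QuotientGroup.out_eq' g', ← QuotientGroup.out_eq' g]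
      exact QuotientGroup.eq.2 hn
    subst hgg
    simp only [Prod.mk.injEq, Subtype.mk.injEq, true_and]
    exact Subtype.ext (mul_left_cancel (mul_right_cancel e1))
  -- the complement
  obtain ⟨K, hK⟩ : ∃ K, K = centralizer ({z} : Set G) ⊓ N := ⟨_, rfl⟩
  have hNK : Nat.card N ≤ Nat.card K * b := by
    rw [← hcard, ← Nat.card_prod]
    refine Nat.card_le_card_of_surjective (fun p : K × B => (⟨p.1 * p.2,
      mul_mem (show (p.1 : G) ∈ N from (hK ▸ p.1.2 : (p.1 : G) ∈ centralizer ({z} : Set G) ⊓ N).2)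
        (hBN p.2.2)⟩ : N)) ?_
    rintro ⟨n, hn⟩
    obtain ⟨α, hα, β, hβ, rfl⟩ := hprod y₀ hyB hy1 n
    have hβB : β ∈ B := hB.cent y₀ hyB hy1 ▸ hβ
    exact ⟨(⟨α, hK ▸ ⟨hα, (mul_mem_cancel_right (hBN hβB)).1 hn⟩⟩, ⟨β, hβB⟩), rfl⟩
  have hAB : ∀ x : G, x ∈ centralizer ({z} : Set G) → x ∈ B → x = 1 := by
    intro x hxA hxB
    by_contra hx1
    exact h.nab (dvd_of_eq (hz.symm.trans (h.val_of_mem hB hcard hz1 (g := 1) (by
      rw [one_mul, inv_one, mul_one, ← hB.cent x hxB hx1]
      exact mem_cent.2 (mem_cent.1 hxA).symm))))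
  -- elements of the normalizer outside have type `c`
  have htypea : ∀ x ∈ N, x ≠ 1 → val x ≠ a := by
    intro x hx hx1 hxa
    refine hx1 (eq_one_of_class_le hNtop fun g => ?_)
    obtain ⟨α, hα, β, hβ, e⟩ := h.exists_mul hxa hy g⁻¹
    have hβN : β ∈ N := hBN (hB.cent y₀ hyB hy1 ▸ hβ)
    rw [show g = β⁻¹ * α⁻¹ by rw [← _root_.mul_inv_rev, ← e, inv_inv],
      show β⁻¹ * α⁻¹ * x * (β⁻¹ * α⁻¹)⁻¹ = β⁻¹ * (α⁻¹ * x * α) * β by group,
      show α⁻¹ * x * α = x by rw [mul_assoc, ← (mem_cent.1 hα).eq, inv_mul_cancel_left]]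
    exact mul_mem (mul_mem (inv_mem hβN) hx) hβN
  have hfpf : ∀ x ∈ K, x ≠ 1 → B ⊓ centralizer ({x} : Set G) = ⊥ := by
    intro x hx hx1
    rw [hK] at hx
    refine eq_bot_iff.2 fun u hu => ?_
    by_contra hu1
    rw [mem_bot] at hu1
    refine hx1 (hAB x hx.1 ?_)
    rw [← hB.cent u hu.1 hu1]
    exact mem_cent.2 (mem_cent.1 hu.2).symm
  have hKne : K ≠ ⊥ := by
    intro hK0
    have hNB : N ≤ B := fun n hn => by
      obtain ⟨α, hα, β, hβ, rfl⟩ := hprod y₀ hyB hy1 n
      have hβB : β ∈ B := hB.cent y₀ hyB hy1 ▸ hβ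
      have hαK : α ∈ K := hK ▸ ⟨hα, (mul_mem_cancel_right (hBN hβB)).1 hn⟩
      rw [hK0, mem_bot] at hαK
      rw [hαK, one_mul]
      exact hβB
    obtain ⟨P₀, hP₀⟩ := Sylow.exists_subgroup_card_pow_prime (G := B) r (hcard.symm ▸ hrfull)
    let P : Sylow r G := Sylow.ofCard (P₀.map B.subtype)
      (by rw [card_map_of_injective B.subtype_injective, hP₀])
    have hPB : (P : Subgroup G) ≤ B := map_subtype_le P₀
    have hnc : normalizer ((P : Subgroup G) : Set G) ≤ centralizer ((P : Subgroup G) : Set G) := by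
      intro n hn
      obtain ⟨x, hxP, hx1, -⟩ := exists_central hrG P
      have hnN : n ∈ N := hN ▸ hB.ti (hPB hxP) hx1 (hPB ((mem_normalizer_iff.1 hn x).1 hxP))
      exact mem_centralizer_iff.2 fun t ht => hB.comm t (hPB ht) n (hNB hnN)
    obtain ⟨P', M, hM, hMc⟩ := Cfsg.Lib.Fusion.hasNormalPComplement_of_normalizer_le_centralizer P hnc
    rcases Subgroup.Normal.eq_bot_or_eq_top hM with e | e
    · subst e
      have hP' : (P' : Subgroup G) = ⊤ := isComplement'_bot_left.1 hMc
      have hp : IsPGroup r G := fun g => by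
        obtain ⟨j, hj⟩ := P'.2 ⟨g, hP' ▸ mem_top g⟩
        exact ⟨j, congrArg Subtype.val hj⟩
      haveI : Nontrivial G := ⟨⟨z, 1, hz1⟩⟩
      haveI := hp.center_nontrivial
      exact (nontrivial_iff_ne_bot _).1 this (center_eq_bot hna)
    · subst e
      exact sylow_ne_bot hrG P' (isComplement'_top_left.1 hMc)
  -- a central element of the complement
  obtain ⟨κ, hκK, hκ1, hκc⟩ : ∃ κ ∈ K, κ ≠ 1 ∧ ∀ x ∈ K, Commute x κ := by
    haveI : (B.subgroupOf N).Normal := hN ▸ Subgroup.normal_in_normalizer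
    have hKN : K ≤ N := hK ▸ inf_le_right
    have hbne : B.subgroupOf N ≠ ⊥ := fun e => hy1 (by
      have : (⟨y₀, hBN hyB⟩ : N) ∈ B.subgroupOf N := mem_subgroupOf.2 hyB
      rw [e, mem_bot] at this
      exact congrArg Subtype.val this)
    have hkne : K.subgroupOf N ≠ ⊥ := fun e => hKne (eq_bot_iff.2 fun x hx => by
      have : (⟨x, hKN hx⟩ : N) ∈ K.subgroupOf N := mem_subgroupOf.2 hx
      rw [e, mem_bot] at this
      exact mem_bot.2 (congrArg Subtype.val this))
    have hc := Cfsg.Lib.ComplementStructure.center_ne_bot hbne hkne fun x hx hx1 => by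
      refine eq_bot_iff.2 fun u hu => mem_bot.2 (Subtype.ext ?_)
      have : (u : G) ∈ B ⊓ centralizer ({(x : G)} : Set G) :=
        ⟨mem_subgroupOf.1 hu.1, mem_cent.2 (congrArg Subtype.val (mem_cent.1 hu.2).eq)⟩
      rwa [hfpf x (mem_subgroupOf.1 hx) (fun e => hx1 (Subtype.ext e)), mem_bot] at this
    obtain ⟨⟨⟨⟨κ, hκN⟩, hκ⟩, hκcen⟩, hκ1⟩ :=
      ((nontrivial_iff_exists_ne (1 : center (K.subgroupOf N))).1 ((nontrivial_iff_ne_bot _).2 hc))
    refine ⟨κ, mem_subgroupOf.1 hκ, fun e => hκ1 (Subtype.ext (Subtype.ext (Subtype.ext e))), fun x hx => ?_⟩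
    exact congrArg Subtype.val (congrArg Subtype.val
      (mem_center_iff.1 hκcen ⟨⟨x, hKN hx⟩, mem_subgroupOf.2 hx⟩))
  have hκA : κ ∈ centralizer ({z} : Set G) := (hK ▸ hκK : κ ∈ centralizer ({z} : Set G) ⊓ N).1
  have hκN : κ ∈ N := (hK ▸ hκK : κ ∈ centralizer ({z} : Set G) ⊓ N).2
  have hκval : val κ = c := by
    rcases h.cases κ hκ1 with e | e | e
    · exact absurd e (htypea κ hκN hκ1)
    · exfalso
      refine hκ1 (orderOf_eq_one_iff.1 (Nat.eq_one_of_dvd_coprimes hab ?_ ?_))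
      · rw [← hz, ← Subgroup.orderOf_mk κ hκA]
        exact orderOf_dvd_natCard _
      · rw [← e, ← Subgroup.orderOf_mk κ (self_mem κ)]
        exact orderOf_dvd_natCard _
    · exact e
  have h2k : 2 * Nat.card K ≤ c := by
    have hle : K ≤ centralizer ({κ} : Set G) := fun x hx => mem_cent.2 (hκc x hx)
    have hlt : K < centralizer ({κ} : Set G) := lt_of_le_not_ge hle fun e => by
      have hzK : z ∈ K := e (mem_cent.2 (mem_cent.1 hκA).symm)
      rw [hK] at hzK
      exact htypea z hzK.2 hz1 hz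
    obtain ⟨m, hm⟩ := card_dvd_of_le hle
    rw [← val, hκval] at hm
    rcases m with _ | _ | m
    · rw [mul_zero] at hm
      exact absurd hm (hκval ▸ val_pos κ).ne'
    · exact absurd (eq_of_le_of_card_ge hle (by rw [← val, hκval, hm, zero_add, mul_one])) hlt.ne
    · rw [hm, mul_comm 2]
      exact Nat.mul_le_mul_left _ (by omega)
  -- the inequality
  have hb6 : 6 ≤ b := by
    obtain ⟨d, hd⟩ := ((Nat.coprime_primes hr hq).2 hrq).mul_dvd_of_dvd_of_dvd hrb hqb
    have hbpos : 0 < b := hcard ▸ Nat.card_pos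
    have h2r := hr.two_le
    have h2q := hq.two_le
    have : 6 ≤ r * q := by
      rcases Nat.lt_or_gt_of_ne hrq with hlt | hlt <;> nlinarith
    rcases d with _ | d
    · omega
    · rw [hd, mul_add, mul_one]; omega
  obtain ⟨hzy1, hzyc⟩ := hzyb y₀ hyB hy1
  have hm1 : (centralizer ({z * y₀} : Set G)).index * c = Nat.card N * N.index := by
    rw [← hzyc, val, index_mul_card, card_mul_index]
  have h3 : (b - 1) * c ≤ Nat.card K * b := by
    refine le_trans (Nat.le_of_mul_le_mul_right ?_ (Nat.pos_of_ne_zero N.index_ne_zero_of_finite)) hNK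
    calc (b - 1) * c * N.index = N.index * (b - 1) * c := by ring
      _ ≤ (centralizer ({z * y₀} : Set G)).index * c := Nat.mul_le_mul_right _ hcount
      _ = Nat.card N * N.index := hm1
  have hK1 : 0 < Nat.card K := Nat.card_pos
  have h4 := (Nat.mul_le_mul_left (b - 1) h2k).trans h3
  have : 2 * (b - 1) ≤ b := by
    refine Nat.le_of_mul_le_mul_right ?_ hK1
    calc 2 * (b - 1) * Nat.card K = (b - 1) * (2 * Nat.card K) := by ring
      _ ≤ Nat.card K * b := h4
      _ = b * Nat.card K := mul_comm _ _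
  omega

theorem false : False := by
  by_cases hcb : c ∣ b
  · exact h.false_of_dvd hna hcb
  · exact h.false_of_not_dvd hna hcb

end Three

end Cfsg.Lib.ConjRankThree
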