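import Cfsg.Agent.Lib.ConjRankThree.Cases
import Cfsg.Agent.Lib.Invol.AbelianCentralizers.Main
import Cfsg.Agent.Lib.GW.Basic
import Cfsg.Agent.S4355
import Cfsg.Agent.S0205
import Cfsg.Agent.Lib.Linear.GLTwo

/-!
# Simple groups of conjugate rank three

Without a proper division among the centraliser orders all involution centralisers are abelian.
-/

set_option autoImplicit false
set_option linter.style.haveILetI false
set_option linter.unusedSectionVars false

open Subgroup
open scoped MatrixGroups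

namespace Cfsg.Lib.ConjRankThree

universe u

variable {G : Type u} [Group G] [Finite G]

/-- No order properly divides another. -/
def NoDiv (G : Type u) [Group G] : Prop :=
  ∀ x y : G, x ≠ 1 → y ≠ 1 → val x ∣ val y → val x = val y

theorem NoDiv.eq_cent (h : NoDiv G) {x y : G} (hx : x ≠ 1) (hy : y ≠ 1)
    (hle : centralizer ({x} : Set G) ≤ centralizer ({y} : Set G)) :
    centralizer ({x} : Set G) = centralizer ({y} : Set G) :=
  eq_of_le_of_val hle (h x y hx hy (val_dvd hle))

theorem NoDiv.eq_of_commute (h : NoDiv G) {x v : G} (hx : x ≠ 1) (hv : v ≠ 1) (hc : Commute x v)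
    (hco : (orderOf x).Coprime (orderOf v)) :
    centralizer ({v} : Set G) = centralizer ({x} : Set G) := by
  have hle := cent_mul_le hc hco
  have hne := mul_ne_one hx hco
  rw [← h.eq_cent hne hv (hle.trans inf_le_right), h.eq_cent hne hx (hle.trans inf_le_left)]

/-- A centraliser of a prime power element is abelian or a group of that prime power order. -/
theorem NoDiv.comm_or_pGroup (h : NoDiv G) {p : ℕ} [Fact p.Prime] {x : G} (hx : x ≠ 1) {i : ℕ}
    (hi : orderOf x = p ^ i) :
    (∀ a ∈ centralizer ({x} : Set G), ∀ b ∈ centralizer ({x} : Set G), a * b = b * a) ∨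
      IsPGroup p (centralizer ({x} : Set G)) := by
  by_cases hv : ∀ q : ℕ, q.Prime → q ∣ val x → q = p
  · exact Or.inr (IsPGroup.of_card (n := (val x).primeFactorsList.length)
      (Nat.eq_prime_pow_of_unique_prime_dvd (val_pos x).ne' fun {d} hd hdd => hv d hd hdd))
  left
  push Not at hv
  obtain ⟨q, hq, hqd, hqp⟩ := hv
  haveI := Fact.mk hq
  obtain ⟨⟨v, hv⟩, hv'⟩ := exists_prime_orderOf_dvd_card' (G := centralizer ({x} : Set G)) q hqd
  rw [Subgroup.orderOf_mk] at hv'
  have hv1 : v ≠ 1 := fun e => hq.one_lt.ne (by rw [← hv', e, orderOf_one])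
  have hvx : Commute x v := (mem_cent.1 hv).symm
  have hCv := h.eq_of_commute hx hv1 hvx (coprime_pow hqp.symm hi (j := 1) (by rw [hv', pow_one]))
  have hle : centralizer ({x} : Set G) ≤ centralizer (centralizer ({x} : Set G) : Set G) := by
    refine le_of_primePow fun r _ w hw j hj => ?_
    rcases eq_or_ne w 1 with rfl | hw1
    · exact one_mem _
    have hCw : centralizer ({w} : Set G) = centralizer ({x} : Set G) := by
      by_cases hrp : r = p
      · rw [← hCv] at hw ⊢
        exact h.eq_of_commute hv1 hw1 (mem_cent.1 hw).symm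
          (coprime_pow (by rw [hrp]; exact hqp) (i := 1) (by rw [hv', pow_one]) hj)
      · exact h.eq_of_commute hx hw1 (mem_cent.1 hw).symm (coprime_pow (Ne.symm hrp) hi hj)
    refine mem_centralizer_iff.2 fun u hu => ?_
    rw [SetLike.mem_coe, ← hCw] at hu
    exact (mem_cent.1 hu).eq
  exact fun a ha b hb => (mem_centralizer_iff.1 (hle ha) b hb).symm

/-- All involution centralisers are abelian. -/
theorem NoDiv.abInv (h : NoDiv G) : Cfsg.Lib.Invol.AC.AbInv G := by
  haveI : Fact (Nat.Prime 2) := ⟨Nat.prime_two⟩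
  intro t ht
  refine ⟨⟨fun a b => Subtype.ext ?_⟩⟩
  have ht1 : t ≠ 1 := fun e => by rw [e, orderOf_one] at ht; omega
  rcases h.comm_or_pGroup ht1 (i := 1) (by rw [ht, pow_one]) with hc | hp
  · exact hc a a.2 b b.2
  obtain ⟨S, hS⟩ := hp.exists_le_sylow
  have h2G : 2 ∣ Nat.card G := ht ▸ orderOf_dvd_natCard t
  obtain ⟨z, hzS, hz1, hzle, ⟨i, hi⟩, -⟩ := exists_central h2G S
  rcases h.comm_or_pGroup hz1 hi with hc | hpz
  · have hle : centralizer ({z} : Set G) ≤ centralizer ({t} : Set G) := fun w hw =>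
      mem_cent.2 (hc w hw t (hzle (hS (self_mem t))))
    have e := h.eq_cent hz1 ht1 hle
    exact hc a (e.ge a.2) b (e.ge b.2)
  obtain ⟨T, hT⟩ := hpz.exists_le_sylow
  have hcard : val z = Nat.card S := by
    refine Nat.dvd_antisymm ?_ (card_dvd_of_le hzle)
    rw [S.card_eq_multiplicity, ← T.card_eq_multiplicity]
    exact card_dvd_of_le hT
  have hS' : IsMulCommutative (S : Subgroup G) := by
    refine Cfsg.Agent.S4355.result (fun x ⟨j, hj⟩ hd => ?_) S
    rcases eq_or_ne x 1 with rfl | hx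
    · rw [show centralizer ({(1 : G)} : Set G) = ⊤ from eq_top_iff.2 fun w _ =>
        mem_cent.2 (Commute.one_right w), index_top] at hd
      omega
    obtain ⟨g, hg⟩ : ∃ g : G, g * x * g⁻¹ ∈ (S : Subgroup G) := by
      obtain ⟨U, hU⟩ := (IsPGroup.of_card (n := j) (by rw [Nat.card_zpowers, hj]) :
        IsPGroup 2 (zpowers x)).exists_le_sylow
      obtain ⟨g, hg⟩ := MulAction.exists_smul_eq G U S
      refine ⟨g, ?_⟩
      rw [← hg, Sylow.coe_subgroup_smul]
      exact ⟨x, hU (mem_zpowers x), rfl⟩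
    have hx' : g * x * g⁻¹ ≠ 1 := fun e => hx (conj_eq_one_iff.1 e)
    have hval : val (g * x * g⁻¹) = val z := by
      rcases h.comm_or_pGroup hx' (p := 2) (i := j)
        (by rw [← MulAut.conj_apply, MulEquiv.orderOf_eq, hj]) with hc | hp'
      · refine h _ _ hx' hz1 (val_dvd fun w hw => mem_cent.2 (hc w hw z ?_))
        exact mem_cent.2 (mem_cent.1 (hzle hg)).symm
      · refine h _ _ hx' hz1 ?_
        obtain ⟨U, hU⟩ := hp'.exists_le_sylow
        rw [hcard, S.card_eq_multiplicity, ← U.card_eq_multiplicity]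
        exact card_dvd_of_le hU
    rw [val_conj, hcard] at hval
    have h1 := mul_dvd_mul (dvd_of_eq hval.symm) hd
    rw [val, card_mul_index, S.card_eq_multiplicity, ← pow_succ] at h1
    have := (Nat.prime_two.pow_dvd_iff_le_factorization Nat.card_pos.ne').1 h1
    omega
  have := congrArg Subtype.val (hS'.is_comm.comm ⟨a, hS a.2⟩ ⟨b, hS b.2⟩)
  simpa using this

variable [IsSimpleGroup G]

/-- The forward direction. -/
theorem psl_of_rank_three (hna : ¬ IsMulCommutative G)
    (h3 : Set.ncard {m : ℕ | ∃ x : G, x ∉ center G ∧ m = (centralizer ({x} : Set G)).index} = 3) :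
    ∃ (m : ℕ) (F : Type) (_ : Field F) (_ : Fintype F), 2 ≤ m ∧ Fintype.card F = 2 ^ m ∧
      Nonempty (G ≃* Matrix.ProjectiveSpecialLinearGroup (Fin 2) F) := by
  classical
  haveI : Fact (Nat.Prime 2) := ⟨Nat.prime_two⟩
  have hZ := center_eq_bot hna
  obtain ⟨V, hV⟩ : ∃ V, V = {v : ℕ | ∃ x : G, x ≠ 1 ∧ val x = v} := ⟨_, rfl⟩
  have hVfin : V.Finite := (Set.finite_le_nat (Nat.card G)).subset fun v hv => by
    rw [hV] at hv
    obtain ⟨x, -, rfl⟩ := hv
    exact card_le_card_group _
  have hV3 : V.ncard = 3 := by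
    rw [← h3]
    refine Set.ncard_congr (fun v _ => Nat.card G / v) (fun v hv => ?_) (fun v w hv hw e => ?_) (fun m hm => ?_)
    · rw [hV] at hv
      obtain ⟨x, hx, rfl⟩ := hv
      exact ⟨x, by rwa [hZ, mem_bot], (index_eq x).symm⟩
    · rw [hV] at hv hw
      obtain ⟨x, -, rfl⟩ := hv
      obtain ⟨y, -, rfl⟩ := hw
      rw [← Nat.div_div_self (val_dvd_card x) Nat.card_pos.ne', e,
        Nat.div_div_self (val_dvd_card y) Nat.card_pos.ne']
    · obtain ⟨x, hx, rfl⟩ := hm
      exact ⟨val x, by rw [hV]; exact ⟨x, fun e => hx (by rw [e]; exact one_mem _), rfl⟩, (index_eq x).symm⟩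
  have hND : NoDiv G := by
    intro x y hx hy hd
    by_contra hne
    have hmax : ∀ M ∈ V, ¬ ∀ v ∈ V, v ∣ M := by
      intro M hM hall
      rw [hV] at hM hall
      obtain ⟨w, hw, rfl⟩ := hM
      refine (val_lt hna hw).ne (eq_card_of_full (val_dvd_card w) fun p _ hp => ?_)
      obtain ⟨z, -, hz1, -, -, hf⟩ := exists_central hp (Classical.arbitrary (Sylow p G))
      exact hf.trans (hall _ ⟨z, hz1, rfl⟩)
    have hcV : val x ∈ V := hV ▸ ⟨x, hx, rfl⟩
    have haV : val y ∈ V := hV ▸ ⟨y, hy, rfl⟩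
    obtain ⟨b, hbV, hb⟩ : ∃ b ∈ V, b ∉ ({val y, val x} : Set ℕ) :=
      Set.exists_mem_notMem_of_ncard_lt_ncard
        (by rw [hV3, Set.ncard_pair (Ne.symm hne)]; norm_num)
    simp only [Set.mem_insert_iff, Set.mem_singleton_iff, not_or] at hb
    have hall : ∀ v ∈ V, v = val y ∨ v = b ∨ v = val x := by
      have he : ({val y, b, val x} : Set ℕ) = V := Set.eq_of_subset_of_ncard_le
        (Set.insert_subset haV (Set.insert_subset hbV (Set.singleton_subset_iff.2 hcV)))
        (by
          rw [hV3, Set.ncard_insert_of_notMem (by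
            simp only [Set.mem_insert_iff, Set.mem_singleton_iff, not_or]
            exact ⟨Ne.symm hb.1, Ne.symm hne⟩), Set.ncard_pair hb.2]) hVfin
      intro v hv
      rw [← he] at hv
      simpa using hv
    have nba : ¬ b ∣ val y := fun e => hmax _ haV fun v hv => by
      rcases hall v hv with r | r | r <;> rw [r]
      exact e
      exact hd
    have nab : ¬ val y ∣ b := fun e => hmax _ hbV fun v hv => by
      rcases hall v hv with r | r | r <;> rw [r]
      exacts [e, hd.trans e]
    have hbex : ∃ w : G, w ≠ 1 ∧ val w = b := by rw [hV] at hbV; exact hbV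
    exact (Three.mk (G := G) (a := val y) (b := b) (c := val x)
      (fun w hw => hall _ (hV ▸ ⟨w, hw, rfl⟩)) ⟨y, hy, rfl⟩ hbex ⟨x, hx, rfl⟩ hd hne nab nba).false hna
  obtain ⟨S⟩ : Nonempty (Sylow 2 G) := inferInstance
  have hns := Cfsg.Lib.GW.not_isSolvable_of_simple hna
  have hnn : ¬ (S : Subgroup G).Normal := fun hn => by
    rcases Subgroup.Normal.eq_bot_or_eq_top hn with e | e
    · refine hns (Cfsg.Agent.S0205.result ?_)
      rw [← Nat.not_even_iff_odd, even_iff_two_dvd]
      exact fun hd => sylow_ne_bot hd S e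
    · exact hns (by
        haveI := (S.2.of_equiv ((MulEquiv.subgroupCongr e).trans Subgroup.topEquiv) : IsPGroup 2 G).isNilpotent
        infer_instance)
  obtain ⟨F, iF, iFt, A, iA, iAf, hchar, hodd, ⟨e⟩⟩ :=
    Cfsg.Lib.Invol.AC.structure_of_hyp (Nat.card G) G rfl S
      ⟨hND.abInv, Cfsg.Lib.GW.not_isCyclic_sylow hns S, hnn⟩
  haveI := hchar
  -- the abelian factor is trivial
  let f : G →* A := (MonoidHom.snd _ A).comp e.toMonoidHom
  have hf : Function.Surjective f := fun a => ⟨e.symm (1, a), by simp [f]⟩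
  have hker : f.ker = ⊤ := by
    rcases Subgroup.Normal.eq_bot_or_eq_top (inferInstance : f.ker.Normal) with h | h
    · refine absurd ⟨⟨fun a b => ?_⟩⟩ hna
      exact (MonoidHom.ker_eq_bot_iff f).1 h (by rw [map_mul, map_mul, mul_comm])
    · exact h
  have hA : ∀ a : A, a = 1 := fun a => by
    obtain ⟨g, rfl⟩ := hf a
    exact (MonoidHom.mem_ker (f := f)).1 (hker ▸ mem_top g)
  let g : G →* SL(2, F) := (MonoidHom.fst _ A).comp e.toMonoidHom
  have hg : Function.Bijective g := by
    refine ⟨fun a b h => e.injective (Prod.ext h ((hA _).trans (hA _).symm)), fun M => ⟨e.symm (M, 1), by simp [g]⟩⟩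
  have hcen : center SL(2, F) = ⊥ := by
    refine eq_bot_iff.2 fun Q hQ => ?_
    obtain ⟨r, hr, hQ'⟩ := Matrix.SpecialLinearGroup.mem_center_iff.1 hQ
    have hr1 : r = 1 := by
      rw [Fintype.card_fin] at hr
      exact CharTwo.sq_inj.mp (hr.trans (one_pow 2).symm)
    rw [mem_bot]
    ext i j
    rw [← hQ', hr1]
    simp
  obtain ⟨⟨m, hm0⟩, -, hm⟩ := FiniteField.card F 2
  have e' : G ≃* Matrix.ProjectiveSpecialLinearGroup (Fin 2) F :=
    (MulEquiv.ofBijective g hg).trans (QuotientGroup.quotientBot.symm.trans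
      (QuotientGroup.quotientMulEquivOfEq hcen.symm))
  refine ⟨m, F, iF, iFt, ?_, hm, ⟨e'⟩⟩
  by_contra hm2
  have hF2 : Nat.card F = 2 := by
    rw [Nat.card_eq_fintype_card, hm]
    show 2 ^ m = 2
    rw [show m = 1 by omega, pow_one]
  refine Cfsg.Lib.GW.not_isCyclic_sylow hns S (isCyclic_of_prime_card (p := 2) ?_)
  have h6 : Nat.card G = 6 := by
    rw [Nat.card_congr (MulEquiv.ofBijective g hg).toEquiv, Cfsg.Lib.Linear.Two.card_SL_two,
      ← Nat.card_eq_fintype_card, hF2]
    norm_num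
  rw [S.card_eq_multiplicity, h6, show (6 : ℕ) = 2 * 3 from rfl,
    Nat.factorization_mul (by norm_num) (by norm_num)]
  simp [Nat.Prime.factorization_self Nat.prime_two, Nat.factorization_eq_zero_of_not_dvd]

end Cfsg.Lib.ConjRankThree
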